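import Cfsg.Agent.H63.GW.Hereditary
import Cfsg.Agent.H39.DihedralKlein
import Cfsg.Agent.H39.DihedralSylow
import Cfsg.Agent.H39.FusionShape.Shape
import Cfsg.Agent.H34.SelfCentV4
import Cfsg.Agent.H61.ClassSizeDiameter
import Cfsg.Agent.Fusion.Frobenius
import Cfsg.Agent.Cores.Constrained
import Cfsg.Agent.Cores.PCore
import Cfsg.Prelude.Def_CaseTheorems
import Mathlib.GroupTheory.SpecificGroups.Alternating.Simple

/-!
# GW programme, step 0 (b): shapes of groups with cyclic or dihedral Sylow 2-subgroups and trivial core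
-/

namespace Cfsg.Agent.H63.GW

open Subgroup Cfsg.Agent

universe u

/-- `L` is `PSL(2,F)`, `|F|` odd and more than three, or `A₇`. -/
def SimpleShape (L : Type u) [Group L] : Prop :=
  (∃ (F : Type) (_ : Field F) (_ : Fintype F), Odd (Fintype.card F) ∧ 3 < Fintype.card F ∧
      Nonempty (L ≃* Matrix.ProjectiveSpecialLinearGroup (Fin 2) F)) ∨
    Nonempty (L ≃* alternatingGroup (Fin 7))

theorem SimpleShape.congr {L M : Type u} [Group L] [Group M] (h : SimpleShape L) (e : L ≃* M) : SimpleShape M := by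
  rcases h with ⟨F, i1, i2, h1, h2, ⟨f⟩⟩ | h
  · exact Or.inl ⟨F, i1, i2, h1, h2, ⟨e.symm.trans f⟩⟩
  · obtain ⟨f⟩ := h
    exact Or.inr ⟨e.symm.trans f⟩

theorem SimpleShape.isSimpleGroup {L : Type u} [Group L] (h : SimpleShape L) : IsSimpleGroup L := by
  rcases h with ⟨F, _, _, -, h2, ⟨f⟩⟩ | h
  · haveI : IsSimpleGroup (Matrix.ProjectiveSpecialLinearGroup (Fin 2) F) :=
      Matrix.ProjectiveSpecialLinearGroup.rank_two_simple (by rw [Nat.card_eq_fintype_card]; omega)
    exact f.symm.isSimpleGroup_congr.1 inferInstance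
  · obtain ⟨f⟩ := h
    haveI : IsSimpleGroup (alternatingGroup (Fin 7)) := alternatingGroup.isSimpleGroup (by simp)
    exact f.symm.isSimpleGroup_congr.1 inferInstance

/-- The inductive hypothesis: perfect core-free subgroups have a known shape. -/
def PerfectHyp (Y : Type u) [Group Y] : Prop :=
  ∀ P : Subgroup Y, Group.IsPerfect ↥P → P ≠ ⊥ → Cfsg.oddCore ↥P = ⊥ → SimpleShape ↥P

variable {Y : Type u} [Group Y] [Finite Y]

/-- An automorphism of odd order of a cyclic 2-group is trivial. -/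
theorem aut_cyclic_eq_one {Q : Type u} [Group Q] [Finite Q] (hQ : IsPGroup 2 Q) [IsCyclic Q]
    (φ : MulAut Q) (hφ : Odd (orderOf φ)) : φ = 1 := by
  haveI : Fact (Nat.Prime 2) := ⟨Nat.prime_two⟩
  obtain ⟨k, hk⟩ := hQ.exists_card_eq
  haveI : NeZero (Nat.card Q) := ⟨Nat.card_pos.ne'⟩
  have h1 : orderOf φ ∣ Nat.totient (2 ^ k) := by
    rw [← hk, ← IsCyclic.card_mulAut]
    exact orderOf_dvd_natCard φ
  have h2 : Nat.totient (2 ^ k) ∣ 2 ^ k := by
    rcases Nat.eq_zero_or_pos k with rfl | hk0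
    · simp
    · rw [Nat.totient_prime_pow Nat.prime_two hk0, show 2 - 1 = 1 from rfl, mul_one]
      exact Nat.pow_dvd_pow 2 (Nat.sub_le k 1)
  exact orderOf_eq_one_iff.1 (Nat.eq_one_of_dvd_coprimes
    (Nat.Coprime.pow_right k (Nat.coprime_two_right.2 hφ)) dvd_rfl (h1.trans h2))

theorem isKleinFour_dihedral_two : IsKleinFour (DihedralGroup 2) :=
  ⟨by rw [DihedralGroup.nat_card], by rw [DihedralGroup.exponent]; simp [Nat.lcm]⟩

/-- Elements of odd order normalising a 2-subgroup other than a four-group centralise it. -/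
theorem mem_centralizer_of_odd (h : SylowDType Y) {Q : Subgroup Y} (hQ : IsPGroup 2 Q)
    (hK : ¬ IsKleinFour ↥Q) {g : Y} (hg : g ∈ normalizer (Q : Set Y)) (ho : Nat.Coprime (orderOf g) 2) :
    g ∈ centralizer (Q : Set Y) := by
  refine H39.mem_centralizer_of_odd_aut (fun φ hφ => ?_) hg ho
  rcases h.dtype_of_pGroup hQ with hc | ⟨n, hn, ⟨e⟩⟩
  · haveI := hc
    exact aut_cyclic_eq_one hQ φ hφ
  · obtain ⟨l, c, s, -, -, hd⟩ := H39.exists_dGen Q hQ hn e
    exact hd.odd_aut_trivial hQ le_rfl hK φ hφ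

theorem hasNormalPComplement_of_cyclic (P : Sylow 2 Y) [hc : IsCyclic ↥(P : Subgroup Y)] :
    Cfsg.HasNormalPComplement 2 Y := by
  haveI : Fact (Nat.Prime 2) := ⟨Nat.prime_two⟩
  refine (Fusion.frobenius_criterion P).2 fun Q hQ g hg ho => ?_
  refine H39.mem_centralizer_of_odd_aut (fun φ hφ => ?_) hg ho
  haveI : IsCyclic Q := isCyclic_of_injective (inclusion hQ) (inclusion_injective hQ)
  exact aut_cyclic_eq_one (P.isPGroup'.to_le hQ) φ hφ

/-- A group with trivial core and a normal 2-complement is a 2-group. -/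
theorem isPGroup_of_complement (hO : Cfsg.oddCore Y = ⊥) (h : Cfsg.HasNormalPComplement 2 Y) :
    IsPGroup 2 Y := by
  haveI : Fact (Nat.Prime 2) := ⟨Nat.prime_two⟩
  obtain ⟨P, N, hN, hc⟩ := h
  have hidx : N.index = Nat.card ↥(P : Subgroup Y) := hc.symm.index_eq_card
  have hP := P.card_eq_multiplicity
  have hodd : Odd (Nat.card N) := by
    have h1 := hc.card_mul
    have h2 : ¬ 2 ∣ (P : Subgroup Y).index := P.not_dvd_index
    rw [← Subgroup.index_mul_card (P : Subgroup Y)] at h1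
    have : Nat.card N = (P : Subgroup Y).index := Nat.eq_of_mul_eq_mul_right Nat.card_pos h1
    rw [this]
    exact Nat.not_even_iff_odd.1 (fun he => h2 he.two_dvd)
  have hNbot : N = ⊥ := le_bot_iff.1 (hO ▸ Cores.le_oddCore hodd)
  subst hNbot
  rw [Subgroup.index_bot] at hidx
  exact IsPGroup.of_card (hidx.trans hP)

/-- The four-group case. -/
theorem four_group_case (V : Subgroup Y) [V.Normal] (hV : IsKleinFour ↥V)
    (hC : ∀ g : Y, (∀ v ∈ V, g * v = v * g) → g ∈ V) :
    IsPGroup 2 Y ∨ Nonempty (Y ≃* alternatingGroup (Fin 4)) ∨ Nonempty (Y ≃* Equiv.Perm (Fin 4)) := by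
  have h4 : Nat.card V = 4 := hV.card_four
  let ρ : Y →* MulAut V := MulAut.conjNormal
  have hker : ρ.ker = V := by
    ext g
    constructor
    · intro hg
      refine hC g fun v hv => ?_
      have := congrArg Subtype.val (DFunLike.congr_fun (show ρ g = 1 from hg) (⟨v, hv⟩ : V))
      exact mul_inv_eq_iff_eq_mul.1 this
    · intro hg
      haveI := hV
      refine MonoidHom.mem_ker.2 (MulEquiv.ext fun v => Subtype.ext ?_)
      show g * (v : Y) * g⁻¹ = v
      rw [show g * (v : Y) = v * g from congrArg Subtype.val ((IsKleinFour.isMulCommutative (G := V)).is_comm.comm ⟨g, hg⟩ v),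
        mul_inv_cancel_right]
  have hperm : Nat.card (MulAut V) ∣ 24 := by
    let ψ : MulAut V →* Equiv.Perm V :=
      { toFun := fun f => f.toEquiv
        map_one' := rfl
        map_mul' := fun _ _ => rfl }
    have hψ : Function.Injective ψ := fun f g hfg => MulEquiv.ext fun v => DFunLike.congr_fun hfg v
    refine (Subgroup.card_dvd_of_injective ψ hψ).trans ?_
    rw [Nat.card_perm, h4]; norm_num [Nat.factorial]
  have hr : Nat.card ρ.range ∣ 24 ∧ Nat.card ρ.range ≤ 6 := by
    refine ⟨(Subgroup.card_subgroup_dvd_card ρ.range).trans hperm, ?_⟩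
    exact (Nat.le_of_dvd Nat.card_pos (Subgroup.card_subgroup_dvd_card ρ.range)).trans
      (H39.FusionShape.card_mulAut_klein hV)
  have hY : Nat.card Y = 4 * Nat.card ρ.range := by
    rw [← ρ.ker.card_mul_index, Subgroup.index_ker, hker, h4]
  have hcases : Nat.card Y ∈ ([4, 8, 12, 16, 24] : List ℕ) := by
    obtain ⟨hr1, hr2⟩ := hr
    have hpos : 0 < Nat.card ρ.range := Nat.card_pos
    rw [hY]
    generalize Nat.card ρ.range = m at *
    interval_cases m <;> simp_all
  simp only [List.mem_cons, List.not_mem_nil, or_false] at hcases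
  rcases hcases with h | h | h | h | h
  · exact Or.inl (IsPGroup.of_card (n := 2) h)
  · exact Or.inl (IsPGroup.of_card (n := 3) h)
  · exact Or.inr (Or.inl (H34.equiv_alt_four V h4 hC h))
  · exact Or.inl (IsPGroup.of_card (n := 4) h)
  · exact Or.inr (Or.inr (H34.equiv_perm_four V h4 hC h))

theorem solvable_shape (h : SylowDType Y) (hO : Cfsg.oddCore Y = ⊥) [Group.IsSolvable Y] :
    IsPGroup 2 Y ∨ Nonempty (Y ≃* alternatingGroup (Fin 4)) ∨ Nonempty (Y ≃* Equiv.Perm (Fin 4)) := by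
  haveI : Fact (Nat.Prime 2) := ⟨Nat.prime_two⟩
  have hC : centralizer (Cfsg.pCore 2 Y : Set Y) ≤ Cfsg.pCore 2 Y :=
    Cores.centralizer_pCore_le Cores.isPSolvable_of_isSolvable hO
  by_cases hK : IsKleinFour ↥(Cfsg.pCore 2 Y)
  · exact four_group_case _ hK fun g hg => hC (mem_centralizer_iff.2 fun v hv => (hg v hv).symm)
  · left
    intro g
    obtain ⟨k, m, hm, hgm⟩ := Nat.exists_eq_two_pow_mul_odd (orderOf_pos g).ne'
    have ho : orderOf (g ^ 2 ^ k) = m := by
      rw [orderOf_pow' g (by positivity), hgm, Nat.gcd_mul_right_left, Nat.mul_div_cancel_left _ (by positivity)]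
    have hmem : g ^ 2 ^ k ∈ centralizer (Cfsg.pCore 2 Y : Set Y) :=
      mem_centralizer_of_odd h Cores.pCore_isPGroup hK
        (by rw [normalizer_eq_top]; exact mem_top _) (ho ▸ Nat.coprime_two_right.2 hm)
    obtain ⟨j, hj⟩ := (Cores.pCore_isPGroup (p := 2) (G := Y)) ⟨_, hC hmem⟩
    refine ⟨k + j, ?_⟩
    rw [pow_add, pow_mul]
    exact congrArg Subtype.val hj

/-- A 2-subgroup of a dihedral-type group centralising a four-group lies in it. -/
theorem eq_one_of_centralizes_four (h : SylowDType Y) {L : Subgroup Y} {C : Subgroup Y} (hd : Disjoint L C)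
    (hc : ∀ x ∈ L, ∀ y ∈ C, Commute x y) {V : Subgroup Y} (hV : IsKleinFour ↥V) (hVL : V ≤ L)
    {z : Y} (hz : z ∈ C) (hz2 : z * z = 1) : z = 1 := by
  by_contra hz1
  haveI : Fact (Nat.Prime 2) := ⟨Nat.prime_two⟩
  have hVp : IsPGroup 2 V := IsPGroup.of_card (n := 2) hV.card_four
  have hzp : IsPGroup 2 (zpowers z) := IsPGroup.of_card (n := 1) (by
    rw [Nat.card_zpowers, pow_one]
    exact orderOf_eq_prime (by rw [sq, hz2]) hz1)
  have hnorm : zpowers z ≤ normalizer (V : Set Y) :=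
    (zpowers_le.2 (mem_centralizer_iff.2 fun v hv => hc v (hVL hv) z hz)).trans
      (centralizer_le_normalizer _)
  have hQ : IsPGroup 2 (V ⊔ zpowers z : Subgroup Y) := hVp.to_sup_of_normal_left' hzp hnorm
  rcases h.dtype_of_pGroup hQ with hcy | ⟨n, hn, ⟨e⟩⟩
  · haveI := hcy
    haveI := hV
    exact IsKleinFour.not_isCyclic (G := V) (isCyclic_of_injective (inclusion (show V ≤ V ⊔ zpowers z from le_sup_left)) (inclusion_injective _))
  · let f : (V ⊔ zpowers z : Subgroup Y) →* DihedralGroup n := e.toMonoidHom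
    let V' : Subgroup (DihedralGroup n) := ((V.subgroupOf (V ⊔ zpowers z)).map f)
    have ev : ↥V ≃* ↥V' := (subgroupOfEquivOfLe le_sup_left).symm.trans
      (equivMapOfInjective _ f e.injective)
    have hV' : IsKleinFour ↥V' := ⟨(Nat.card_congr ev.symm.toEquiv).trans hV.card_four,
      (Monoid.exponent_eq_of_mulEquiv ev.symm).trans hV.exponent_two⟩
    have hzmem : f ⟨z, mem_sup_right (mem_zpowers z)⟩ ∈ V' := H39.dihedral_klein_centralizer hV' <| by
      rw [mem_centralizer_iff]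
      rintro _ ⟨v, hv, rfl⟩
      rw [← map_mul, ← map_mul]
      exact congrArg f (Subtype.ext (hc v (hVL (mem_subgroupOf.1 hv)) z hz))
    obtain ⟨v, hv, hvz⟩ := hzmem
    have hzV : z ∈ V := by
      have := e.injective hvz
      rw [this] at hv
      exact hv
    exact hz1 (Subgroup.disjoint_def.1 hd (hVL hzV) hz)

/-- Nonsolvable case: a normal simple subgroup with trivial centraliser. -/
theorem nonsolvable_shape (h : SylowDType Y) (hO : Cfsg.oddCore Y = ⊥) (hP : PerfectHyp Y)
    (hns : ¬ Group.IsSolvable Y) :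
    ∃ L : Subgroup Y, L.Normal ∧ SimpleShape ↥L ∧ centralizer (L : Set Y) = ⊥ := by
  haveI : Fact (Nat.Prime 2) := ⟨Nat.prime_two⟩
  obtain ⟨L, hLn, hL1, hLL⟩ := H61.ClassDiam.exists_perfect_normal hns
  haveI := hLn
  have hperf : Group.IsPerfect ↥L := ⟨by
    apply Subgroup.map_injective L.subtype_injective
    rw [commutator_def, Subgroup.map_commutator, ← MonoidHom.range_eq_map, Subgroup.range_subtype, hLL]⟩
  have hOL : Cfsg.oddCore ↥L = ⊥ := by
    have h1 := Cores.map_pPrimeCore_le_of_normal (p := 2) L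
    rw [show Cfsg.pPrimeCore 2 Y = ⊥ from hO, le_bot_iff] at h1
    exact (Subgroup.map_eq_bot_iff_of_injective _ L.subtype_injective).1 h1
  have hsh := hP L hperf hL1 hOL
  refine ⟨L, hLn, hsh, ?_⟩
  have hsimp := hsh.isSimpleGroup
  have hna : ¬ IsMulCommutative ↥L := fun hc => hL1 (hLL ▸ commutator_eq_bot_iff_le_centralizer.2
    fun w hw => mem_centralizer_iff.2 fun v hv => congrArg Subtype.val (hc.is_comm.comm ⟨v, hv⟩ ⟨w, hw⟩))
  set C := centralizer (L : Set Y) with hC
  have hd : Disjoint L C := by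
    rw [disjoint_iff, eq_bot_iff]
    intro x hx
    rcases hsimp.eq_bot_or_eq_top_of_normal (center ↥L) inferInstance with hz | hz
    · have : (⟨x, hx.1⟩ : L) ∈ center ↥L := mem_center_iff.2 fun y =>
        Subtype.ext (mem_centralizer_iff.1 hx.2 y y.2)
      rw [hz, mem_bot] at this
      exact mem_bot.2 (congrArg Subtype.val this)
    · exact absurd ⟨⟨fun a b => (mem_center_iff.1 (hz ▸ mem_top b) a)⟩⟩ hna
  have hc : ∀ x ∈ L, ∀ y ∈ C, Commute x y := fun x hx y hy => mem_centralizer_iff.1 hy x hx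
  obtain ⟨V, hV, hVL⟩ : ∃ V : Subgroup Y, IsKleinFour ↥V ∧ V ≤ L := by
    obtain ⟨T⟩ : Nonempty (Sylow 2 ↥L) := inferInstance
    rcases (h.subgroup L) T with hcy | ⟨n, hn, ⟨e⟩⟩
    · haveI := hcy
      have h2 := isPGroup_of_complement hOL (hasNormalPComplement_of_cyclic T)
      haveI : Nontrivial ↥L := hsimp.toNontrivial
      haveI := h2.center_nontrivial
      rcases hsimp.eq_bot_or_eq_top_of_normal (center ↥L) inferInstance with hz | hz
      · exact absurd hz ((Subgroup.nontrivial_iff_ne_bot _).1 inferInstance)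
      · exact absurd ⟨⟨fun a b => (mem_center_iff.1 (hz ▸ mem_top b) a)⟩⟩ hna
    · obtain ⟨l, c, s, -, -, hd'⟩ := H39.exists_dGen (T : Subgroup ↥L) T.isPGroup' hn e
      obtain ⟨U, hU, -, -⟩ := hd'.klein_exists 0
      have ev := equivMapOfInjective U L.subtype L.subtype_injective
      exact ⟨U.map L.subtype, ⟨(Nat.card_congr ev.symm.toEquiv).trans hU.card_four,
        (Monoid.exponent_eq_of_mulEquiv ev.symm).trans hU.exponent_two⟩, map_subtype_le U⟩
  have hodd : Odd (Nat.card C) := by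
    by_contra he
    obtain ⟨z, hz⟩ := exists_prime_orderOf_dvd_card' (G := ↥C) 2 (Nat.not_odd_iff_even.1 he).two_dvd
    have hz2 : (z : Y) * z = 1 := by
      rw [← Subgroup.coe_mul, ← sq, ← hz, pow_orderOf_eq_one, Subgroup.coe_one]
    have := eq_one_of_centralizes_four h hd hc hV hVL z.2 hz2
    rw [show z = 1 from Subtype.ext this, orderOf_one] at hz
    omega
  exact le_bot_iff.1 (hO ▸ Cores.le_oddCore hodd)

/-- Step 0 (b). -/
theorem shape_cases (h : SylowDType Y) (hO : Cfsg.oddCore Y = ⊥) (hP : PerfectHyp Y) :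
    IsPGroup 2 Y ∨ Nonempty (Y ≃* alternatingGroup (Fin 4)) ∨ Nonempty (Y ≃* Equiv.Perm (Fin 4)) ∨
      ∃ L : Subgroup Y, L.Normal ∧ SimpleShape ↥L ∧ centralizer (L : Set Y) = ⊥ := by
  by_cases hs : Group.IsSolvable Y
  · rcases solvable_shape h hO with h1 | h1 | h1
    · exact Or.inl h1
    · exact Or.inr (Or.inl h1)
    · exact Or.inr (Or.inr (Or.inl h1))
  · exact Or.inr (Or.inr (Or.inr (nonsolvable_shape h hO hP hs)))

end Cfsg.Agent.H63.GW
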