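import Cfsg.Agent.PGroups.TwoGroups
import Mathlib.GroupTheory.Sylow
import Mathlib.GroupTheory.SpecificGroups.Dihedral

/-!
# GW programme, step 0 (a): cyclic-or-dihedral Sylow 2-subgroups are hereditary
-/

namespace Cfsg.Agent.H63.GW

open Subgroup

universe u v

/-- Cyclic, or dihedral of order at least four. -/
def DType (Q : Type*) [Group Q] : Prop :=
  IsCyclic Q ∨ ∃ n : ℕ, 2 ≤ n ∧ Nonempty (Q ≃* DihedralGroup n)

/-- Every Sylow 2-subgroup is cyclic or dihedral. -/
def SylowDType (G : Type*) [Group G] : Prop :=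
  ∀ P : Sylow 2 G, DType ↥(P : Subgroup G)

theorem DType.congr {Q : Type u} {R : Type v} [Group Q] [Group R] (h : DType Q) (e : Q ≃* R) : DType R := by
  rcases h with h | ⟨n, hn, ⟨f⟩⟩
  · exact Or.inl (e.isCyclic.1 h)
  · exact Or.inr ⟨n, hn, ⟨e.symm.trans f⟩⟩

theorem of_hom_dihedral {Q : Type u} [Group Q] [Finite Q] {m : ℕ} [NeZero m] (f : Q →* DihedralGroup m)
    (hf : Function.Injective f) : DType Q := by
  classical
  let A : Subgroup Q := (zpowers (DihedralGroup.r (1 : ZMod m))).comap f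
  have hmem : ∀ x, x ∈ A ↔ ∃ i, f x = DihedralGroup.r i := by
    intro x
    constructor
    · intro hx
      obtain ⟨k, hk⟩ := mem_zpowers_iff.1 (mem_comap.1 hx)
      exact ⟨(k : ZMod m), by rw [← hk, DihedralGroup.r_one_zpow]⟩
    · rintro ⟨i, hi⟩
      exact mem_comap.2 (mem_zpowers_iff.2 ⟨(i.val : ℤ), by
        rw [zpow_natCast, DihedralGroup.r_one_pow, ZMod.natCast_zmod_val, hi]⟩)
  haveI hA : IsCyclic A := isCyclic_of_injective
    ((f.comp A.subtype).codRestrict (zpowers (DihedralGroup.r (1 : ZMod m))) (fun x => x.2))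
    (fun a b h => Subtype.ext (hf (congrArg Subtype.val h)))
  by_cases htop : A = ⊤
  · left
    rw [htop] at hA
    exact Subgroup.topEquiv.isCyclic.1 hA
  obtain ⟨y, hy⟩ : ∃ y, y ∉ A := by
    by_contra! h
    exact htop (eq_top_iff.2 fun x _ => h x)
  obtain ⟨j, hj⟩ : ∃ j, f y = DihedralGroup.sr j := by
    rcases h : f y with i | i
    · exact absurd ((hmem y).2 ⟨i, h⟩) hy
    · exact ⟨i, rfl⟩
  obtain ⟨g, hg⟩ := Subgroup.isCyclic_iff_exists_zpowers_eq_top A |>.1 hA
  have hgA : g ∈ A := hg ▸ mem_zpowers g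
  obtain ⟨i, hi⟩ := (hmem g).1 hgA
  have hy2 : y ^ 2 = 1 := hf (by rw [map_pow, hj, map_one, sq, DihedralGroup.sr_mul_self])
  have hconj : y * g * y⁻¹ = g⁻¹ := hf (by
    rw [map_mul, map_mul, map_inv, map_inv, hj, hi, DihedralGroup.inv_sr, DihedralGroup.sr_mul_r,
      DihedralGroup.sr_mul_sr, DihedralGroup.inv_r]
    congr 1
    ring)
  have hidx : A.index = 2 := by
    refine Subgroup.index_eq_two_iff.2 ⟨y, fun x => ?_⟩
    rcases h : f x with k | k
    · refine Or.inr ⟨(hmem x).2 ⟨k, h⟩, fun hxy => ?_⟩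
      obtain ⟨l, hl⟩ := (hmem _).1 hxy
      rw [map_mul, h, hj, DihedralGroup.r_mul_sr] at hl
      cases hl
    · refine Or.inl ⟨(hmem _).2 ⟨j - k, by rw [map_mul, h, hj, DihedralGroup.sr_mul_sr]⟩, fun hx => ?_⟩
      obtain ⟨l, hl⟩ := (hmem x).1 hx
      rw [h] at hl
      cases hl
  have hcard : Nat.card Q = 2 * orderOf g := by
    rw [← Subgroup.index_mul_card A, hidx, ← hg, Nat.card_zpowers]
  rcases le_or_gt 2 (orderOf g) with h2 | h2
  · haveI : NeZero (orderOf g) := ⟨by omega⟩
    exact Or.inr ⟨_, h2, Cfsg.Agent.PGroups.nonempty_mulEquiv_dihedral rfl (hg ▸ hy) hy2 hconj hcard⟩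
  · left
    have h1 : orderOf g = 1 := by
      have := orderOf_pos g
      omega
    haveI : Fact (Nat.Prime 2) := ⟨Nat.prime_two⟩
    exact isCyclic_of_prime_card (p := 2) (by rw [hcard, h1])

theorem DType.of_injective {Q : Type u} {R : Type v} [Group Q] [Group R] [Finite R] (h : DType R) (f : Q →* R)
    (hf : Function.Injective f) : DType Q := by
  haveI : Finite Q := Finite.of_injective f hf
  rcases h with h | ⟨n, hn, ⟨e⟩⟩
  · exact Or.inl (isCyclic_of_injective f hf)
  · haveI : NeZero n := ⟨by omega⟩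
    exact of_hom_dihedral (e.toMonoidHom.comp f) (e.injective.comp hf)

variable {G : Type u} [Group G] [Finite G]

theorem sylowDType_of_sylow {P : Sylow 2 G} (hP : DType ↥(P : Subgroup G)) : SylowDType G := by
  intro Q
  exact hP.congr (Sylow.equiv P Q)

theorem sylowDType_of_dihedral (S : Sylow 2 G) {n : ℕ} (hn : 2 ≤ n)
    (hS : Nonempty ((S : Subgroup G) ≃* DihedralGroup n)) : SylowDType G :=
  sylowDType_of_sylow (Or.inr ⟨n, hn, hS⟩)

theorem SylowDType.dtype_of_pGroup (h : SylowDType G) {Q : Subgroup G} (hQ : IsPGroup 2 Q) : DType Q := by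
  obtain ⟨P, hP⟩ := hQ.exists_le_sylow
  exact (h P).of_injective (Subgroup.inclusion hP) (Subgroup.inclusion_injective hP)

theorem SylowDType.subgroup (h : SylowDType G) (H : Subgroup G) : SylowDType ↥H := by
  intro P
  exact (h.dtype_of_pGroup (P.isPGroup'.map H.subtype)).congr
    (Subgroup.equivMapOfInjective (P : Subgroup ↥H) H.subtype H.subtype_injective).symm

theorem SylowDType.of_injective (h : SylowDType G) {X : Type v} [Group X] (f : X →* G)
    (hf : Function.Injective f) : SylowDType X := by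
  intro P
  exact (h.dtype_of_pGroup (P.isPGroup'.map f)).congr
    (Subgroup.equivMapOfInjective (P : Subgroup X) f hf).symm

/-- Images under maps with kernel of odd order. -/
theorem SylowDType.of_surjective (h : SylowDType G) {Y : Type v} [Group Y] (f : G →* Y)
    (hf : Function.Surjective f) (hker : Odd (Nat.card f.ker)) : SylowDType Y := by
  haveI : Fact (Nat.Prime 2) := ⟨Nat.prime_two⟩
  haveI : Finite Y := Finite.of_surjective f hf
  intro Q
  obtain ⟨P, hP⟩ := Sylow.mapSurjective_surjective hf 2 Q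
  have hinj : Function.Injective (f.comp (P : Subgroup G).subtype) := by
    rw [injective_iff_map_eq_one]
    intro x hx
    obtain ⟨k, hk⟩ := P.isPGroup' x
    have h1 : orderOf (x : G) ∣ Nat.card f.ker := by
      have := orderOf_dvd_natCard (⟨(x : G), MonoidHom.mem_ker.2 hx⟩ : f.ker)
      rwa [Subgroup.orderOf_mk] at this
    have h2 : orderOf (x : G) ∣ 2 ^ k := orderOf_dvd_of_pow_eq_one (by
      rw [← Subgroup.coe_pow, hk, Subgroup.coe_one])
    have h3 : Nat.Coprime (2 ^ k) (Nat.card f.ker) := Nat.Coprime.pow_left k (Nat.coprime_two_left.2 hker)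
    have := Nat.dvd_one.1 (h3 ▸ Nat.dvd_gcd h2 h1)
    exact Subtype.ext (orderOf_eq_one_iff.1 this)
  have hQ : (Q : Subgroup Y) = ((P : Subgroup G).map f) := by
    rw [← hP]; rfl
  refine (h P).congr ((MonoidHom.ofInjective hinj).trans (MulEquiv.subgroupCongr ?_))
  rw [hQ, MonoidHom.range_comp, Subgroup.range_subtype]

theorem SylowDType.quotient (h : SylowDType G) (N : Subgroup G) [N.Normal] (hN : Odd (Nat.card N)) :
    SylowDType (G ⧸ N) :=
  h.of_surjective (QuotientGroup.mk' N) (QuotientGroup.mk'_surjective N) (by rwa [QuotientGroup.ker_mk'])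

theorem SylowDType.congr (h : SylowDType G) {Y : Type v} [Group Y] (e : G ≃* Y) : SylowDType Y :=
  h.of_injective e.symm.toMonoidHom e.symm.injective

end Cfsg.Agent.H63.GW
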